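import Groth.Agent.ModGroth.PerfTensor
import Groth.Agent.QCohLib.Coherent
import Mathlib

/-! Tensor products of quasi-coherent (finite type) modules are quasi-coherent (of finite type). -/

universe u

open CategoryTheory CategoryTheory.Limits AlgebraicGeometry

set_option backward.isDefEq.respectTransparency false
set_option linter.style.haveILetI false

namespace Groth.Agent.TensorQCoh

open Groth.Agent.QCohLib Groth.Agent.ModGroth

variable {R : CommRingCat.{u}} (G : (Spec R).Modules)

/-- `M ↦ tilde M ⊗ G`. -/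
noncomputable def T : ModuleCat.{u} R ⥤ (Spec R).Modules :=
  tilde.functor R ⋙ (DCoh.tensorBi (X := Spec R)).flip.obj G

instance preservesColimits_T : PreservesColimitsOfSize.{u, u} (T G) := by
  have := Perf.preservesColimits_tensorBi_flip (X := Spec R) G
  unfold T
  infer_instance

noncomputable def TIsoSelf : (T G).obj (ModuleCat.of R R) ≅ G :=
  ((DCoh.tensorBi (X := Spec R)).mapIso (AlgebraicGeometry.tildeSelf (R := R))).app G ≪≫
    Perf.unitTensorIso G

variable [G.IsQuasicoherent]

noncomputable def TFreeIso (J : Type u) :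
    (T G).obj (∐ fun _ : J => ModuleCat.of R R) ≅
      (tilde.functor R).obj (∐ fun _ : J => (moduleSpecΓFunctor (R := R)).obj G) :=
  PreservesCoproduct.iso (T G) _ ≪≫ Sigma.mapIso (fun _ => TIsoSelf G ≪≫ (counitIso G).symm) ≪≫
    (PreservesCoproduct.iso (tilde.functor R) _).symm

/-- The canonical surjection from a free module given by a family of elements. -/
noncomputable def freeMap {M : ModuleCat.{u} R} {J : Type u} (v : J → M) :
    (∐ fun _ : J => ModuleCat.of R R) ⟶ M :=
  Sigma.desc fun j => ModuleCat.ofHom (LinearMap.toSpanSingleton R M (v j))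

theorem epi_freeMap {M : ModuleCat.{u} R} {J : Type u} (v : J → M)
    (hv : Submodule.span R (Set.range v) = ⊤) : Epi (freeMap v) := by
  rw [ModuleCat.epi_iff_surjective, ← Function.Surjective.of_comp_iff' Function.bijective_id]
  refine LinearMap.range_eq_top.mp ?_
  rw [eq_top_iff, ← hv, Submodule.span_le]
  rintro _ ⟨j, rfl⟩
  refine ⟨Sigma.ι (fun _ : J => ModuleCat.of R R) j (1 : R), ?_⟩
  change (Sigma.ι (fun _ : J => ModuleCat.of R R) j ≫ freeMap v) (1 : R) = v j
  rw [freeMap, Sigma.ι_desc]
  exact one_smul R (v j)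

theorem isQuasicoherent_T_free (J : Type u) :
    ((T G).obj (∐ fun _ : J => ModuleCat.of R R)).IsQuasicoherent :=
  haveI := isQuasicoherent_tilde_obj (R := R) (∐ fun _ : J => (moduleSpecΓFunctor (R := R)).obj G)
  isQuasicoherent_of_iso (TFreeIso G J).symm

theorem isQuasicoherent_T (M : ModuleCat.{u} R) : ((T G).obj M).IsQuasicoherent := by
  let π := freeMap (M := M) (id : M → M)
  haveI : Epi π := epi_freeMap _ (by rw [Set.range_id, Submodule.span_univ])
  let K : ModuleCat.{u} R := Limits.kernel π
  let σ : (∐ fun _ : K => ModuleCat.of R R) ⟶ Limits.kernel π := freeMap (M := K) (fun x : K => x)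
  haveI : Epi σ := epi_freeMap _ (by rw [Set.range_id', Submodule.span_univ])
  let e : cokernel (σ ≫ kernel.ι π) ≅ M :=
    cokernelEpiComp σ (kernel.ι π) ≪≫
      ((Abelian.epiIsCokernelOfKernel _ (kernelIsKernel π)).coconePointUniqueUpToIso
        (cokernelIsCokernel (kernel.ι π))).symm
  haveI := isQuasicoherent_T_free G K
  haveI := isQuasicoherent_T_free G M
  haveI : (T G).PreservesZeroMorphisms := Functor.preservesZeroMorphisms_of_preserves_initial_object
  haveI := isQuasicoherent_cokernel ((T G).map (σ ≫ kernel.ι π))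
  exact isQuasicoherent_of_iso ((PreservesCokernel.iso (T G) (σ ≫ kernel.ι π)).symm ≪≫ (T G).mapIso e)

theorem finite_T (M : ModuleCat.{u} R) [Module.Finite R M]
    [Module.Finite R ((moduleSpecΓFunctor (R := R)).obj G)] :
    Module.Finite R ((moduleSpecΓFunctor (R := R)).obj ((T G).obj M)) := by
  classical
  obtain ⟨s, hs⟩ := (Module.Finite.fg_top : (⊤ : Submodule R M).FG)
  let π := freeMap (M := M) (fun x : (s : Set M) => x.1)
  haveI : Epi π := epi_freeMap _ (by rw [Subtype.range_coe]; exact hs)
  haveI := isQuasicoherent_T G M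
  haveI := isQuasicoherent_T_free G (s : Set M)
  haveI : Epi ((T G).map π) := inferInstance
  let P := ∐ fun _ : (s : Set M) => (moduleSpecΓFunctor (R := R)).obj G
  have hP : Module.Finite R P := Module.Finite.equiv (ModuleCat.coprodIsoDirectSum _).toLinearEquiv.symm
  have h1 := (epi_iff_Γ_surjective ((T G).map π)).mp inferInstance
  exact Module.Finite.of_surjective
    ((tilde.isoTop P).hom ≫ (moduleSpecΓFunctor (R := R)).map ((TFreeIso G (s : Set M)).inv ≫ (T G).map π)).hom
    (by
      intro y
      obtain ⟨x, rfl⟩ := h1 y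
      obtain ⟨w, hw⟩ := (ConcreteCategory.bijective_of_isIso
        ((tilde.isoTop P).hom ≫ (moduleSpecΓFunctor (R := R)).map (TFreeIso G (s : Set M)).inv)).2 x
      refine ⟨w, ?_⟩
      rw [Functor.map_comp, ← hw]
      rfl)

end Groth.Agent.TensorQCoh

namespace Groth.Agent.TensorQCoh

open Groth.Agent.QCohLib Groth.Agent.ModGroth

variable {X : Scheme.{u}}

/-- The restriction of a tensor product to an affine open, through `T`. -/
noncomputable def onSpecTensorIso (F G : X.Modules) [F.IsQuasicoherent] {U : X.Opens} (hU : IsAffineOpen U) :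
    (T (onSpec G hU)).obj ((moduleSpecΓFunctor (R := Γ(X, U))).obj (onSpec F hU)) ≅
      onSpec (CohB1.tensorMod F G) hU :=
  ((DCoh.tensorBi (X := Spec Γ(X, U))).mapIso (counitIso (onSpec F hU))).app (onSpec G hU) ≪≫
    (Perf.restrTensorIso hU.fromSpec F G).symm

theorem isQuasicoherent_tensorMod (F G : X.Modules) [F.IsQuasicoherent] [G.IsQuasicoherent] :
    (CohB1.tensorMod F G).IsQuasicoherent := by
  rw [isQuasicoherent_iff_affine]
  intro U
  haveI := isQuasicoherent_T (onSpec G U.2) ((moduleSpecΓFunctor (R := Γ(X, U.1))).obj (onSpec F U.2))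
  exact isQuasicoherent_of_iso (onSpecTensorIso F G U.2)

theorem isFiniteType_tensorMod (F G : X.Modules) [F.IsQuasicoherent] [G.IsQuasicoherent]
    (hF : F.IsFiniteType) (hG : G.IsFiniteType) : (CohB1.tensorMod F G).IsFiniteType := by
  haveI := isQuasicoherent_tensorMod F G
  rw [isFiniteType_iff_affine]
  intro U
  haveI := finite_sections F hF U.2
  haveI := finite_sections G hG U.2
  haveI : Module.Finite Γ(X, U.1) ((moduleSpecΓFunctor (R := Γ(X, U.1))).obj (onSpec F U.2)) :=
    Module.Finite.equiv (onSpecΓ F U.2).symm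
  haveI : Module.Finite Γ(X, U.1) ((moduleSpecΓFunctor (R := Γ(X, U.1))).obj (onSpec G U.2)) :=
    Module.Finite.equiv (onSpecΓ G U.2).symm
  haveI := finite_T (onSpec G U.2) ((moduleSpecΓFunctor (R := Γ(X, U.1))).obj (onSpec F U.2))
  haveI : Module.Finite Γ(X, U.1) (ΓR (onSpec (CohB1.tensorMod F G) U.2)) :=
    Module.Finite.equiv ((moduleSpecΓFunctor (R := Γ(X, U.1))).mapIso (onSpecTensorIso F G U.2)).toLinearEquiv
  exact Module.Finite.equiv (onSpecΓ (CohB1.tensorMod F G) U.2)

end Groth.Agent.TensorQCoh
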